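import Cfsg.Agent.Spor.O73M.C0
import Cfsg.Agent.Spor.O351.Grp
import Cfsg.Agent.Spor.MatG2
import Cfsg.Agent.S0292

set_option autoImplicit false
set_option maxRecDepth 100000000
set_option Elab.async false

namespace Cfsg.Agent.Spor.O73M

theorem rels : AllP (fun w => A.eqS TT w 1 = true) (Ctx.sqRL 8 O351.RL) :=
  show AllP (fun w => A.eqS TT w 1 = true) [[0, 0], [2, 2], [4, 4], [6, 6], [8, 8], [10, 10], [12, 12], [14, 14], [0, 2, 0, 2, 0, 2], [0, 4, 0, 4], [0, 6, 0, 6], [0, 8, 0, 8], [0, 10, 0, 10], [0, 12, 0, 12], [0, 14, 0, 14], [2, 4, 2, 4, 2, 4], [2, 6, 2, 6], [2, 8, 2, 8], [2, 10, 2, 10], [2, 12, 2, 12], [2, 14, 2, 14], [4, 6, 4, 6, 4, 6], [4, 8, 4, 8], [4, 10, 4, 10], [4, 12, 4, 12, 4, 12], [4, 14, 4, 14], [6, 8, 6, 8, 6, 8], [6, 10, 6, 10], [6, 12, 6, 12], [6, 14, 6, 14], [8, 10, 8, 10, 8, 10], [8, 12, 8, 12], [8, 14, 8, 14], [10, 12, 10, 12], [10, 14,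 10, 14], [12, 14, 12, 14, 12, 14], [4, 2, 0, 4, 6, 8, 4, 12, 14, 4, 2, 0, 4, 6, 8, 4, 12, 14, 4, 2, 0, 4, 6, 8, 4, 12, 14, 4, 2, 0, 4, 6, 8, 4, 12, 14, 4, 2, 0, 4, 6, 8, 4, 12, 14, 4, 2, 0, 4, 6, 8, 4, 12, 14, 4, 2, 0, 4, 6, 8, 4, 12, 14, 4, 2, 0, 4, 6, 8, 4, 12, 14, 4, 2, 0, 4, 6, 8, 4, 12, 14, 4, 2, 0, 4, 6, 8, 4, 12, 14], [0, 2, 4, 6, 8, 10, 12, 0, 2, 4, 6, 8, 10, 12, 0, 2, 4, 6, 8, 10, 12, 0, 2, 4, 6, 8, 10, 12, 0, 2, 4, 6, 8, 10, 12, 0, 2, 4, 6, 8, 10, 12, 0, 2, 4, 6, 8, 10, 12, 0, 2, 4, 6, 8, 10, 12, 0, 2, 4, 6, 8, 10, 12]] from AllP.cons r1 (AllP.cons r2 (AllP.cons r3 (AllP.cons r4 (AllP.cons r5 (AllP.cons r6 (AllP.cons r7 (AllP.cons r8 (AllP.cons r9 (AllP.cons r10 (AllP.cons r11 (AllP.cons r12 (AllP.cons r13 (AllP.cons r14 (AllP.cons r15 (AllP.cons r16 (AllP.cons r17 (AllP.cons r18 (AllP.cons r19 (AllP.cons r20 (AllP.cons r21 (AllP.cons r22 (AllP.cons r23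 (AllP.cons r24 (AllP.cons r25 (AllP.cons r26 (AllP.cons r27 (AllP.cons r28 (AllP.cons r29 (AllP.cons r30 (AllP.cons r31 (AllP.cons r32 (AllP.cons r33 (AllP.cons r34 (AllP.cons r35 (AllP.cons r36 (AllP.cons r37 (AllP.cons r38 (AllP.nil))))))))))))))))))))))))))))))))))))))
theorem relsQ : AllP (fun w => A.isS TT w = true) (Ctx.sqRL 8 O351.RL) :=
  show AllP (fun w => A.isS TT w = true) [[0, 0], [2, 2], [4, 4], [6, 6], [8, 8], [10, 10], [12, 12], [14, 14], [0, 2, 0, 2, 0, 2], [0, 4, 0, 4], [0, 6, 0, 6], [0, 8, 0, 8], [0, 10, 0, 10], [0, 12, 0, 12], [0, 14, 0, 14], [2, 4, 2, 4, 2, 4], [2, 6, 2, 6], [2, 8, 2, 8], [2, 10, 2, 10], [2, 12, 2, 12], [2, 14, 2, 14], [4, 6, 4, 6, 4, 6], [4, 8, 4, 8], [4, 10, 4, 10], [4, 12, 4, 12, 4, 12], [4, 14, 4, 14], [6, 8, 6, 8, 6, 8], [6, 10, 6, 10], [6, 12, 6, 12], [6, 14, 6, 14], [8, 10, 8, 10, 8, 10], [8, 12, 8, 12], [8, 14, 8, 14],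 [10, 12, 10, 12], [10, 14, 10, 14], [12, 14, 12, 14, 12, 14], [4, 2, 0, 4, 6, 8, 4, 12, 14, 4, 2, 0, 4, 6, 8, 4, 12, 14, 4, 2, 0, 4, 6, 8, 4, 12, 14, 4, 2, 0, 4, 6, 8, 4, 12, 14, 4, 2, 0, 4, 6, 8, 4, 12, 14, 4, 2, 0, 4, 6, 8, 4, 12, 14, 4, 2, 0, 4, 6, 8, 4, 12, 14, 4, 2, 0, 4, 6, 8, 4, 12, 14, 4, 2, 0, 4, 6, 8, 4, 12, 14, 4, 2, 0, 4, 6, 8, 4, 12, 14], [0, 2, 4, 6, 8, 10, 12, 0, 2, 4, 6, 8, 10, 12, 0, 2, 4, 6, 8, 10, 12, 0, 2, 4, 6, 8, 10, 12, 0, 2, 4, 6, 8, 10, 12, 0, 2, 4, 6, 8, 10, 12, 0, 2, 4, 6, 8, 10, 12, 0, 2, 4, 6, 8, 10, 12, 0, 2, 4, 6, 8, 10, 12]] from AllP.cons r39 (AllP.cons r40 (AllP.cons r41 (AllP.cons r42 (AllP.cons r43 (AllP.cons r44 (AllP.cons r45 (AllP.cons r46 (AllP.cons r47 (AllP.cons r48 (AllP.cons r49 (AllP.cons r50 (AllP.cons r51 (AllP.cons r52 (AllP.cons r53 (AllP.cons r54 (AllP.cons r55 (AllP.cons r56 (AllP.cons r57 (AllP.cons r58 (AllP.cons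 r59 (AllP.cons r60 (AllP.cons r61 (AllP.cons r62 (AllP.cons r63 (AllP.cons r64 (AllP.cons r65 (AllP.cons r66 (AllP.cons r67 (AllP.cons r68 (AllP.cons r69 (AllP.cons r70 (AllP.cons r71 (AllP.cons r72 (AllP.cons r73 (AllP.cons r74 (AllP.cons r75 (AllP.cons r76 (AllP.nil))))))))))))))))))))))))))))))))))))))

instance instFact3 : Fact (Nat.Prime 3) := ⟨by norm_num⟩

def e : Unit ⊕ (Fin 3 ⊕ Fin 3) ≃ Fin 7 :=
  (Equiv.sumCongr finOneEquiv.symm finSumFinEquiv).trans finSumFinEquiv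

noncomputable def X : Ctx A (ZMod 3) (Unit ⊕ (Fin 3 ⊕ Fin 3)) :=
  Ctx.one A e (by decide +kernel) (by decide +kernel) (by decide +kernel)

def cf : Unit ⊕ (Fin 3 ⊕ Fin 3) → Unit ⊕ (Fin 3 ⊕ Fin 3) → ℕ
  | .inl _, .inl _ => 2
  | .inr (.inl i), .inr (.inr j) => if i = j then 1 else 0
  | .inr (.inr i), .inr (.inl j) => if i = j then 1 else 0
  | _, _ => 0

theorem hZ (v : Unit ⊕ (Fin 3 ⊕ Fin 3) → ZMod 3) :
    2 * quadFormOdd 3 (ZMod 3) v = v ⬝ᵥ Matrix.mulVec (X.mk' Z) v := by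
  have : (Matrix.of fun r c => (cf r c : ZMod 3)) = X.mk' Z :=
    Ctx.eq_mk'_of_ent cf (fun r c => by
      rw [Ctx.decR_one' rfl, Matrix.of_apply]
      congr 1
      revert r c
      decide +kernel) (by decide +kernel)
  rw [← this]
  simp [quadFormOdd, dotProduct, Matrix.mulVec, Fintype.sum_sum_type, Fin.sum_univ_three, cf]
  ring

theorem iso : Nonempty (O351.P ≃* POmega (ZMod 3) (quadFormOdd 3 (ZMod 3))) := by
  have h0 := Ctx.exists_O (X := X) gensOk formOk (by decide) hZ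
  have h1 := O351A1.cert.bound_nil.mem_commutator
    ((Ctx.codA_gen gensOk h0).pres (isoToMat_inj _) rels) [[0], [2], [4], [6], [8], [10], [12], [14]] (H := [([], 0, true), ([], 1, true), ([], 2, true), ([], 3, true), ([], 4, true), ([], 5, true), ([], 6, true), ([], 7, true), ([], 8, true), ([], 9, true), ([], 10, true), ([], 11, true), ([], 12, true), ([], 13, true), ([], 14, true), ([], 15, true), ([], 16, true), ([], 17, true), ([], 18, true), ([], 19, true), ([], 20, true), ([], 21, true), ([], 22, true), ([], 23, true), ([], 24, true), ([], 25, true), ([], 26, true), ([], 27, true), ([], 28, true), ([], 29, true), ([], 31, true), ([], 1, true), ([], 2, true), ([], 3, true), ([], 4, true), ([], 5, true), ([], 6, true), ([], 40, true), ([], 8, true), ([], 9, true), ([], 10, true), ([], 11, true), ([], 12, true), ([], 49, true), ([], 14, true), ([], 15, true),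 ([], 52, true), ([], 17, true), ([], 58, true), ([], 19, true), ([], 20, true), ([], 21, true), ([], 67, true), ([], 23, true), ([], 24, true), ([], 25, true), ([], 26, true), ([], 85, true)]) (by decide +kernel)
  have hc := Ctx.codA_gen (X := X) (ρ := (isoToMat _).comp (Omega (ZMod 3) _).subtype) gensOk
    fun j hj => ⟨⟨_, h1 (mem_gsub _ hj)⟩, Ctx.gen_spec (h0 j hj)⟩
  have h2 := Cfsg.Agent.S0292.result (F := ZMod 3) (ZMod.card 3) (by decide) 3 le_rfl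
  exact iso_of_simple' O351.bound (by norm_num) O351.cert.pres
    (hc.presQ ((isoToMat_inj _).comp Subtype.val_injective) relsQ)
    O351.lbP O351.simpleP (hc.neQ (a := 0) (b := 2) (by decide) ne)
    (Nat.eq_of_mul_eq_mul_left two_pos (h2.trans (by decide +kernel)))

end Cfsg.Agent.Spor.O73M
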