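import Cfsg.Agent.Spor.O73M.D

set_option autoImplicit false
set_option maxRecDepth 100000000
set_option Elab.async false

namespace Cfsg.Agent.Spor.O73M

theorem gensOk : A.gensOk TT 8 = true := by decide +kernel

theorem r1 : A.eqS TT [0, 0] 1 = true := by decide +kernel

theorem r2 : A.eqS TT [2, 2] 1 = true := by decide +kernel

theorem r3 : A.eqS TT [4, 4] 1 = true := by decide +kernel

theorem r4 : A.eqS TT [6, 6] 1 = true := by decide +kernel

theorem r5 : A.eqS TT [8, 8] 1 = true := by decide +kernel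

theorem r6 : A.eqS TT [10, 10] 1 = true := by decide +kernel

theorem r7 : A.eqS TT [12, 12] 1 = true := by decide +kernel

theorem r8 : A.eqS TT [14, 14] 1 = true := by decide +kernel

theorem r9 : A.eqS TT [0, 2, 0, 2, 0, 2] 1 = true := by decide +kernel

theorem r10 : A.eqS TT [0, 4, 0, 4] 1 = true := by decide +kernel

theorem r11 : A.eqS TT [0, 6, 0, 6] 1 = true := by decide +kernel

theorem r12 : A.eqS TT [0, 8, 0, 8] 1 = true := by decide +kernel

theorem r13 : A.eqS TT [0, 10, 0, 10] 1 = true := by decide +kernel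

theorem r14 : A.eqS TT [0, 12, 0, 12] 1 = true := by decide +kernel

theorem r15 : A.eqS TT [0, 14, 0, 14] 1 = true := by decide +kernel

theorem r16 : A.eqS TT [2, 4, 2, 4, 2, 4] 1 = true := by decide +kernel

theorem r17 : A.eqS TT [2, 6, 2, 6] 1 = true := by decide +kernel

theorem r18 : A.eqS TT [2, 8, 2, 8] 1 = true := by decide +kernel

theorem r19 : A.eqS TT [2, 10, 2, 10] 1 = true := by decide +kernel

theorem r20 : A.eqS TT [2, 12, 2, 12] 1 = true := by decide +kernel

theorem r21 : A.eqS TT [2, 14, 2, 14] 1 = true := by decide +kernel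

theorem r22 : A.eqS TT [4, 6, 4, 6, 4, 6] 1 = true := by decide +kernel

theorem r23 : A.eqS TT [4, 8, 4, 8] 1 = true := by decide +kernel

theorem r24 : A.eqS TT [4, 10, 4, 10] 1 = true := by decide +kernel

theorem r25 : A.eqS TT [4, 12, 4, 12, 4, 12] 1 = true := by decide +kernel

theorem r26 : A.eqS TT [4, 14, 4, 14] 1 = true := by decide +kernel

theorem r27 : A.eqS TT [6, 8, 6, 8, 6, 8] 1 = true := by decide +kernel

theorem r28 : A.eqS TT [6, 10, 6, 10] 1 = true := by decide +kernel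

theorem r29 : A.eqS TT [6, 12, 6, 12] 1 = true := by decide +kernel

theorem r30 : A.eqS TT [6, 14, 6, 14] 1 = true := by decide +kernel

theorem r31 : A.eqS TT [8, 10, 8, 10, 8, 10] 1 = true := by decide +kernel

theorem r32 : A.eqS TT [8, 12, 8, 12] 1 = true := by decide +kernel

theorem r33 : A.eqS TT [8, 14, 8, 14] 1 = true := by decide +kernel

theorem r34 : A.eqS TT [10, 12, 10, 12] 1 = true := by decide +kernel

theorem r35 : A.eqS TT [10, 14, 10, 14] 1 = true := by decide +kernel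

theorem r36 : A.eqS TT [12, 14, 12, 14, 12, 14] 1 = true := by decide +kernel

theorem r37 : A.eqS TT [4, 2, 0, 4, 6, 8, 4, 12, 14, 4, 2, 0, 4, 6, 8, 4, 12, 14, 4, 2, 0, 4, 6, 8, 4, 12, 14, 4, 2, 0, 4, 6, 8, 4, 12, 14, 4, 2, 0, 4, 6, 8, 4, 12, 14, 4, 2, 0, 4, 6, 8, 4, 12, 14, 4, 2, 0, 4, 6, 8, 4, 12, 14, 4, 2, 0, 4, 6, 8, 4, 12, 14, 4, 2, 0, 4, 6, 8, 4, 12, 14, 4, 2, 0, 4, 6, 8, 4, 12, 14] 1 = true := by decide +kernel

theorem r38 : A.eqS TT [0, 2, 4, 6, 8, 10, 12, 0, 2, 4, 6, 8, 10, 12, 0, 2, 4, 6, 8, 10, 12, 0, 2, 4, 6, 8, 10, 12, 0, 2, 4, 6, 8, 10, 12, 0, 2, 4, 6, 8, 10, 12, 0, 2, 4, 6, 8, 10, 12, 0, 2, 4, 6, 8, 10, 12, 0, 2, 4, 6, 8, 10, 12] 1 = true := by decide +kernel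

theorem r39 : A.isS TT [0, 0] = true := by decide +kernel

theorem r40 : A.isS TT [2, 2] = true := by decide +kernel

theorem r41 : A.isS TT [4, 4] = true := by decide +kernel

theorem r42 : A.isS TT [6, 6] = true := by decide +kernel

theorem r43 : A.isS TT [8, 8] = true := by decide +kernel

theorem r44 : A.isS TT [10, 10] = true := by decide +kernel

theorem r45 : A.isS TT [12, 12] = true := by decide +kernel

theorem r46 : A.isS TT [14, 14] = true := by decide +kernel

theorem r47 : A.isS TT [0, 2, 0, 2, 0, 2] = true := by decide +kernel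

theorem r48 : A.isS TT [0, 4, 0, 4] = true := by decide +kernel

theorem r49 : A.isS TT [0, 6, 0, 6] = true := by decide +kernel

theorem r50 : A.isS TT [0, 8, 0, 8] = true := by decide +kernel

theorem r51 : A.isS TT [0, 10, 0, 10] = true := by decide +kernel

theorem r52 : A.isS TT [0, 12, 0, 12] = true := by decide +kernel

theorem r53 : A.isS TT [0, 14, 0, 14] = true := by decide +kernel

theorem r54 : A.isS TT [2, 4, 2, 4, 2, 4] = true := by decide +kernel

theorem r55 : A.isS TT [2, 6, 2, 6] = true := by decide +kernel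

theorem r56 : A.isS TT [2, 8, 2, 8] = true := by decide +kernel

theorem r57 : A.isS TT [2, 10, 2, 10] = true := by decide +kernel

theorem r58 : A.isS TT [2, 12, 2, 12] = true := by decide +kernel

theorem r59 : A.isS TT [2, 14, 2, 14] = true := by decide +kernel

theorem r60 : A.isS TT [4, 6, 4, 6, 4, 6] = true := by decide +kernel

theorem r61 : A.isS TT [4, 8, 4, 8] = true := by decide +kernel

theorem r62 : A.isS TT [4, 10, 4, 10] = true := by decide +kernel

theorem r63 : A.isS TT [4, 12, 4, 12, 4, 12] = true := by decide +kernel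

theorem r64 : A.isS TT [4, 14, 4, 14] = true := by decide +kernel

theorem r65 : A.isS TT [6, 8, 6, 8, 6, 8] = true := by decide +kernel

theorem r66 : A.isS TT [6, 10, 6, 10] = true := by decide +kernel

theorem r67 : A.isS TT [6, 12, 6, 12] = true := by decide +kernel

theorem r68 : A.isS TT [6, 14, 6, 14] = true := by decide +kernel

theorem r69 : A.isS TT [8, 10, 8, 10, 8, 10] = true := by decide +kernel

theorem r70 : A.isS TT [8, 12, 8, 12] = true := by decide +kernel

theorem r71 : A.isS TT [8, 14, 8, 14] = true := by decide +kernel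

theorem r72 : A.isS TT [10, 12, 10, 12] = true := by decide +kernel

theorem r73 : A.isS TT [10, 14, 10, 14] = true := by decide +kernel

theorem r74 : A.isS TT [12, 14, 12, 14, 12, 14] = true := by decide +kernel

theorem r75 : A.isS TT [4, 2, 0, 4, 6, 8, 4, 12, 14, 4, 2, 0, 4, 6, 8, 4, 12, 14, 4, 2, 0, 4, 6, 8, 4, 12, 14, 4, 2, 0, 4, 6, 8, 4, 12, 14, 4, 2, 0, 4, 6, 8, 4, 12, 14, 4, 2, 0, 4, 6, 8, 4, 12, 14, 4, 2, 0, 4, 6, 8, 4, 12, 14, 4, 2, 0, 4, 6, 8, 4, 12, 14, 4, 2, 0, 4, 6, 8, 4, 12, 14, 4, 2, 0, 4, 6, 8, 4, 12, 14] = true := by decide +kernel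

theorem r76 : A.isS TT [0, 2, 4, 6, 8, 10, 12, 0, 2, 4, 6, 8, 10, 12, 0, 2, 4, 6, 8, 10, 12, 0, 2, 4, 6, 8, 10, 12, 0, 2, 4, 6, 8, 10, 12, 0, 2, 4, 6, 8, 10, 12, 0, 2, 4, 6, 8, 10, 12, 0, 2, 4, 6, 8, 10, 12, 0, 2, 4, 6, 8, 10, 12] = true := by decide +kernel

theorem ne : band (Nat.blt 2 1 || Nat.blt 1 2) (A.entW TT [0, 2, 1, 3] 2 1 1) = true := by decide +kernel

theorem formOk : A.formOk TT TR Z 8 = true := by decide +kernel

end Cfsg.Agent.Spor.O73M
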