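import Cfsg.Agent.Spor.MatG

set_option autoImplicit false
set_option maxRecDepth 100000000
set_option Elab.async false
noncomputable section

namespace Cfsg.Agent.Spor.O73M

def A : Ar := ⟨3, 6, 7, 1, 1⟩
def TT : List (List Nat) := [[0x81042000, 0x42081082, 0x81041001, 0x80000, 0x2000000, 0x41042001, 0x2042081002],
  [0x81042000, 0x42081082, 0x81041001, 0x80000, 0x2000000, 0x41042001, 0x2042081002],
  [0x80042000, 0x80, 0x80041001, 0x80000, 0x2000000, 0x40042001, 0x2040081002],
  [0x80042000, 0x80, 0x80041001, 0x80000, 0x2000000, 0x40042001, 0x2040081002],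
  [0x2081080, 0x2081041, 0x2000, 0x80000, 0x1081081, 0x81042042, 0x2002081081],
  [0x2081080, 0x2081041, 0x2000, 0x80000, 0x1081081, 0x81042042, 0x2002081081],
  [0x1082081000, 0x1082081081, 0x1082080001, 0x2041002002, 0x2000000, 0x2001042002, 0x82081001],
  [0x1082081000, 0x1082081081, 0x1082080001, 0x2041002002, 0x2000000, 0x2001042002, 0x82081001],
  [0x2000081000, 0x80, 0x2000, 0x2000041001, 0x2000000, 0x1080042002, 0x1000081001],
  [0x2000081000, 0x80, 0x2000, 0x2000041001, 0x2000000, 0x1080042002, 0x1000081001],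
  [0x40041000, 0x80, 0x80081002, 0x80000, 0x2000000, 0x40082002, 0x2080082002],
  [0x40041000, 0x80, 0x80081002, 0x80000, 0x2000000, 0x40082002, 0x2080082002],
  [0x2, 0x42042080, 0x81080000, 0x80000, 0x2000000, 0x2042000, 0x2081081000],
  [0x2, 0x42042080, 0x81080000, 0x80000, 0x2000000, 0x2042000, 0x2081081000],
  [0x2, 0x82081080, 0x82080000, 0x80000, 0x2000000, 0x1042000, 0x2082081000],
  [0x2, 0x82081080, 0x82080000, 0x80000, 0x2000000, 0x1042000, 0x2082081000]]
def TR : List (List Nat) := [[0x2040001080, 0x80, 0x1080001042, 0x2040081081, 0x2042001081, 0x1040002042, 0x2000000000],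
  [0x2040001000, 0x80, 0x1080001002, 0x2040081001, 0x2000000, 0x1040002002, 0x2000000000],
  [0x1081000040, 0x2042000042, 0x1081002041, 0x2042080082, 0x2041000082, 0x80000000, 0x2000000000],
  [0x1080081040, 0x80, 0x1080080041, 0x2040002082, 0x2042042082, 0x2000042082, 0x80081041],
  [0x1080040000, 0x80, 0x1080042001, 0x2040040002, 0x2000000, 0x80000000, 0x1040080002],
  [0x2080002000, 0x80, 0x2080001001, 0x2080082001, 0x2000000, 0x2040002001, 0x2000000000],
  [0x2, 0x80, 0x1080000080, 0x2040082040, 0x1082001080, 0x2000002040, 0x2000000000],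
  [0x2, 0x80, 0x1080000040, 0x2040082080, 0x2042002080, 0x2000002080, 0x2000000000]]
def Z : List Nat := [0x2, 0x1000000, 0x40000000, 0x1000000000, 0x40, 0x1000, 0x40000]

end Cfsg.Agent.Spor.O73M
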